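import Cfsg.Agent.Lib.C23.B

/-! The abelian subgroup `J` (helper8). -/

set_option autoImplicit false

namespace Cfsg.Lib.C23

open Subgroup Matrix Cfsg.Lib.BG Cfsg.Lib.Transfer Cfsg.Lib.OddChar Cfsg.Lib.T3 Cfsg.Lib.IA Cfsg.Lib.Loc3 Cfsg.Lib.F43 Cfsg.Lib.U63
open scoped Cfsg.Lib.Transfer

variable {G : Type*} [Group G] {A B L P Q R U X : Subgroup G} {a b c d e g j k n r s t u v w x y z : G}

/-- the standard data -/
structure B0 (z r t y a b c d : G) (P Q R : Subgroup G) : Type _ extends AD z r t P Q R where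
  p : PR z y
  u : Hd z r y a b P
  v : Hd z t y c d Q

theorem PR.exists_b0 [Finite G] (p : PR z y) : ∃ r t a b c d P Q R y', (y' = y ∨ y' = y⁻¹) ∧ Nonempty (B0 z r t y' a b c d P Q R) := by
  obtain ⟨r, t, P, Q, R, h, ry, ty⟩ : ∃ r t P Q R, ∃ _ : AD z r t P Q R, r * y = y * r ∧ t * y = y * t := by
    obtain ⟨r, t, P, Q, R, h, hy⟩ := p.ad
    obtain ⟨g, m, e, f⟩ := h.fixrt p hy
    have k := a1_conj h.toA1 g⁻¹
    rw [cj_of (cms (inv_mem (Qz_le m)))] at k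
    obtain ⟨k⟩ := exists_ad k
    exact ⟨_, _, _, _, _, k, by simpa using comm_of_cj rfl e, by simpa using comm_of_cj rfl f⟩
  have hy := h.h0_r p.c ry.symm
  obtain ⟨b, mb, nb, cb, ib⟩ := h.good' p hy
  obtain ⟨d, md, nd, cd, id⟩ := h.sy.good' p (hs hy)
  obtain ⟨a, ma, ia, e, he, ay, ab⟩ := h.exa p ry mb nb cb ib
  obtain ⟨c, mc, ic, f, hf, cy, cd'⟩ := h.sy.exa p ty md nd cd id
  have k : ∀ {e f}, e ∈ zpowers z → f ∈ zpowers z → a * y * a⁻¹ = e * b * y → c * y * c⁻¹ = f * d * y → f * e ≠ 1 := fun {e f} me mf p1 p2 q =>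
    nb (h.PQ mb (mq (inv_mem md) (eq_inv_of_mul_eq_one_right (p.kill (mul_mem (h.QQ md) (h.QP mb)) (mul_mem (h.sy.dd p ty md nd cd id)
      (h.dd p ry mb nb cb ib)) (p.s.of (g := a * c) (by
        rw [← cjcj, p2, ← conj_mul, ← conj_mul, p1, cj_of (h.zcc mf (h.hP ma)), cj_of (h.cc ma md), eq_inv_of_mul_eq_one_left q]
        cg [h.zcc me (h.hQ md)])))).symm))
  have zb := cms (h.e1.cz mb)
  have zd := cms (h.e2.cz md)
  rcases he with rfl | rfl <;> rcases hf with rfl | rfl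
  · exact ⟨r, t, a, b, c, d, P, Q, R, y, .inl rfl, ⟨⟨h, p, ⟨ma, mb, nb, ia, ib, ry, cb, ay, ab⟩, ⟨mc, md, nd, ic, id, ty, cd, cy, cd'⟩⟩⟩⟩
  · exact absurd (inv_mul_cancel _) (k (mem_zpowers _) (inv_mem (mem_zpowers _)) ay cy)
  · exact absurd (mul_inv_cancel _) (k (inv_mem (mem_zpowers _)) (mem_zpowers _) ay cy)
  · exact ⟨r, t, a, _, c, _, P, Q, R, _, .inr rfl, ⟨⟨h, p.inv, .of_inv ma mb nb ia ib ry cb ay ab zb (cms p.c),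
      .of_inv mc md nd ic id ty cd cy cd' zd (cms p.c)⟩⟩⟩

theorem AD.cenZ (h : AD z r t P Q R) (m : n ∈ H0 P Q z) (e : h.D.ρ n = 1) (f : h.E.ρ n = 1) (p : r * n = n * r) (q : t * n = n * t) :
    n ∈ zpowers z := h.cen (mem_inf.2 ⟨h.cenP m e p, h.sy.cenP (hs m) f q⟩)

namespace B0

/-- swapping the halves -/
def sy (h : B0 z r t y a b c d P Q R) : B0 z t r y c d a b Q P R := ⟨h.toAD.sy, h.p, h.v, h.u⟩

variable (h : B0 z r t y a b c d P Q R)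
include h

theorem b3 : b ^ 3 = 1 := h.x1 b h.u.mb
theorem a3 : a ^ 3 = 1 := h.x1 a h.u.ma
theorem y3 : y ^ 3 = 1 := h.p.y3
theorem b1 : b ≠ 1 := fun e => h.u.nb (e ▸ one_mem _)
theorem bz : b * z = z * b := cms (h.e1.cz h.u.mb)
theorem az : a * z = z * a := cms (h.e1.cz h.u.ma)
theorem yz : y * z = z * y := cms h.p.c
theorem rz : r * z = z * r := cms (hc h.hr)
theorem db : d * b = b * d := (h.cc h.u.mb h.v.mb).symm
theorem ad : a * d = d * a := h.cc h.u.ma h.v.mb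
theorem rd : r * d = d * r := (h.rQ d h.v.mb).symm
theorem zJ : z ∈ JJ z b d := jmk rfl h.bz.symm h.sy.bz.symm
theorem yJ : y ∈ JJ z b d := jmk h.yz h.u.cb.symm h.v.cb.symm
theorem bJ : b ∈ JJ z b d := jmk h.bz rfl h.db.symm
theorem dJ : d ∈ JJ z b d := jsy h.sy.bJ
theorem ZJ (m : e ∈ zpowers z) : e ∈ JJ z b d := zpowers_le.2 h.zJ m
theorem hJ (m : j ∈ JJ z b d) : j ∈ H0 P Q z := h.h0_b (mcs (jz m)) h.u.mb h.u.nb (by rw [cj_of (jb m)]; exact h.u.mb)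

theorem Pb (m : x ∈ P) (o : x * b = b * x) : ∃ e ∈ zpowers z, ∃ w ∈ zpowers b, x = e * w := by
  obtain ⟨e, p, f | f | f⟩ := h.D.par m h.u.mb h.u.nb o
  exacts [⟨e, p, 1, one_mem _, by rw [f, mul_one]⟩, ⟨e, p, b, mem_zpowers b, f⟩, ⟨e, p, _, inv_mem (mem_zpowers b), f⟩]

theorem ibz (m : w ∈ zpowers b) : r * w * r⁻¹ = w⁻¹ := by
  obtain ⟨k, rfl⟩ := m
  simp only [← conj_zpow, h.u.ib, _root_.inv_zpow]

theorem cmJ (m : j ∈ JJ z b d) : r * j * r⁻¹ * j⁻¹ ∈ zpowers b := by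
  obtain ⟨e, p, w, q, f⟩ := h.Pb (h.cm_r (h.hJ m)) (by
    have := cj_comm (k := r) (jb m)
    rw [h.u.ib] at this
    exact ((Commute.inv_right_iff.1 this).mul_left (Commute.inv_left (jb m))).eq)
  have k : r * (r * j * r⁻¹ * j⁻¹) * r⁻¹ = (r * j * r⁻¹ * j⁻¹)⁻¹ := by rw [← conj_mul, cj_cj h.r2, ← conj_inv]; group
  rw [f, ← conj_mul, zcj p (hc h.hr), h.ibz q, _root_.mul_inv_rev, (cs (h.zcc p (h.hP (zpowers_le.2 h.u.mb q)))).1.2.2.2,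
    mul_left_inj] at k
  rwa [f, one23 (mul_eq_one_iff_eq_inv.2 k) (cube_z h.z3 p), one_mul]

theorem decr (m : j ∈ JJ z b d) : ∃ w ∈ zpowers b, r * (w * j) = w * j * r := by
  have o := h.cmJ m
  refine ⟨_, inv_mem o, mul_inv_eq_iff_eq_mul.1 ?_⟩
  rw [← conj_mul, h.ibz (inv_mem o), ← sq3 (cube_z h.b3 o)]
  nth_rw 1 [sq3 (cube_z h.b3 o)]
  group

theorem decJ (m : j ∈ JJ z b d) : ∃ w ∈ zpowers b, ∃ x ∈ zpowers d, r * (x * (w * j)) = x * (w * j) * r ∧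
    t * (x * (w * j)) = x * (w * j) * t := by
  obtain ⟨w, p, e⟩ := h.decr m
  obtain ⟨x, q, f⟩ := h.sy.decr (jsy (mul_mem (zpowers_le.2 h.bJ p) m))
  exact ⟨w, p, x, q, by rw [← mul_assoc, ← h.rQ x (zpowers_le.2 h.v.mb q), mul_assoc, e, ← mul_assoc], f⟩

variable [Finite G]

theorem hy : y ∈ H0 P Q z := h.h0_r h.p.c h.u.ry.symm
theorem bQ : b ∈ Qz y := h.dd h.p h.u.ry h.u.mb h.u.nb h.u.cb h.u.ib

theorem nyz (m : e ∈ zpowers z) (s : Sg z (e * y)) : e = 1 := by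
  have q := h.p.zmul m s
  have k : ∀ {r t a b c d : G} {P Q : Subgroup G} (h : B0 z r t y a b c d P Q R), b ∈ Qz (e * y) := fun h =>
    h.dd q (by cg [h.u.ry, h.zcc m h.hr]) h.u.mb h.u.nb (by cg [h.u.cb, h.zcc m (h.hP h.u.mb)]) h.u.ib
  rcases z3c h.z3 m with f | rfl | rfl
  · exact f
  · exact absurd (q.kill (h.QP h.u.mb) (k h) (h.p.s.of (h.u.ay.trans (by cg [h.bz])))) h.b1
  · refine absurd (h.PQ h.u.mb (mq (inv_mem h.v.mb) (eq_inv_of_mul_eq_one_right (q.kill (mul_mem (h.QQ h.v.mb) (h.QP h.u.mb))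
      (mul_mem (k h.sy) (k h)) (h.p.s.of (g := a * c) ?_))).symm)) h.u.nb
    rw [← cjcj, h.v.ay, ← conj_mul, ← conj_mul, h.u.ay, cj_of h.az, cj_of h.ad, ← sq3 h.z3]
    cg [h.bz, h.sy.bz]

theorem ρJ (m : j ∈ JJ z b d) : h.D.ρ j = 1 ∨ h.D.ρ j = h.D.ρ y ∨ h.D.ρ j = (h.D.ρ y)⁻¹ :=
  s3_stab _ (h.noT h.p h.hy) _ (h.D.π_ne h.u.mb h.u.nb) (h.D.fix (hl h.hy) h.u.mb h.u.cb.symm) _ (h.D.fix (hl (h.hJ m)) h.u.mb (jb m))

theorem ρJc (m : j ∈ JJ z b d) (o : k ∈ JJ z b d) : h.D.ρ (j * k * j⁻¹ * k⁻¹) = 1 := by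
  rw [h.D.ρ_cm (hl (h.hJ m)) (hl (h.hJ o))]
  rcases h.ρJ m with e | e | e <;> rcases h.ρJ o with f | f | f <;> rw [e, f] <;> group

theorem cmZ (m : j ∈ JJ z b d) (o : k ∈ JJ z b d) (p : r * j = j * r) (q : t * j = j * t) (p' : r * k = k * r) (q' : t * k = k * t) :
    j * k * j⁻¹ * k⁻¹ ∈ zpowers z :=
  h.cenZ (h.hJ (mul_mem (mul_mem (mul_mem m o) (inv_mem m)) (inv_mem o))) (h.ρJc m o) (h.sy.ρJc (jsy m) (jsy o)) (by cg [p, p'])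
    (by cg [q, q'])

theorem Jy (m : j ∈ JJ z b d) : j * y = y * j := by
  obtain ⟨w, p, x, q, e, f⟩ := h.decJ m
  have o := mul_mem (zpowers_le.2 h.dJ q) (mul_mem (zpowers_le.2 h.bJ p) m)
  have k := h.cmZ o h.yJ e f h.u.ry h.v.ry
  have := h.nyz k (h.p.s.of (g := x * (w * j)) (by rw [inv_mul_cancel_right]))
  rw [mul_inv_eq_one, mul_inv_eq_iff_eq_mul] at this
  exact cms ((mul_mem_cancel_left (zpowers_le.2 (mcs h.u.cb) p)).1 ((mul_mem_cancel_left (zpowers_le.2 (mcs h.v.cb) q)).1 (mcs this)))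

theorem J3 (m : j ∈ JJ z b d) : j ^ 3 = 1 := by
  obtain ⟨w, p, x, q, e, f⟩ := h.decJ m
  have o := mul_mem (zpowers_le.2 h.dJ q) (mul_mem (zpowers_le.2 h.bJ p) m)
  have k : ∀ {r t a b c d : G} {P Q : Subgroup G} (h : B0 z r t y a b c d P Q R) {j}, j ∈ JJ z b d → h.D.ρ (j ^ 3) = 1 := fun h j m => by
    rw [h.D.ρ_pow (hl (h.hJ m))]
    exact s3_cube _ _ (h.D.π_ne h.u.mb h.u.nb) (h.D.fix (hl (h.hJ m)) h.u.mb (jb m))
  have i := h.cenZ (h.hJ (pow_mem o 3)) (k h o) (k h.sy (jsy o)) (Commute.pow_right e 3) (Commute.pow_right f 3)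
  obtain ⟨⟨_, _, _, _, _, ⟨g⟩⟩, -⟩ := h.p.symm.w
  have := h.p.zq i (g.cube (k := 2) (mcs (h.Jy o)) (by rw [pow_two, pow_mul]; exact cube_z h.z3 i))
  rwa [Commute.mul_pow (zcm q (mcs (jd (mul_mem (zpowers_le.2 h.bJ p) m)))), Commute.mul_pow (zcm p (mcs (jb m))), cube_z h.b3 p,
    cube_z h.sy.b3 q, one_mul, one_mul] at this

theorem pgJ : IsPGroup 3 (JJ z b d) := fun j => ⟨1, Subtype.ext (h.J3 j.2)⟩

theorem Jab (m : j ∈ JJ z b d) (o : k ∈ JJ z b d) : j * k = k * j := by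
  have l : ∀ {j k}, j ∈ JJ z b d → k ∈ JJ z b d → r * k = k * r → t * k = k * t → j * k = k * j := fun {j k} m o p' q' => by
    obtain ⟨w, p, x, q, e, f⟩ := h.decJ m
    have i := mul_mem (zpowers_le.2 h.dJ q) (mul_mem (zpowers_le.2 h.bJ p) m)
    obtain ⟨⟨_, _, _, _, _, ⟨g⟩⟩, -⟩ := h.p.symm.w
    have := h.p.zq (h.cmZ i o e f p' q') (g.comm (fun _ m => mcs (h.Jy m)) h.pgJ i o)
    rw [mul_inv_eq_one, mul_inv_eq_iff_eq_mul] at this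
    exact cms ((mul_mem_cancel_left (mcs (zcm p (mcs (jb o))))).1 ((mul_mem_cancel_left (mcs (zcm q (mcs (jd o))))).1 (mcs this)))
  obtain ⟨w, p, x, q, e, f⟩ := h.decJ o
  have := l m (mul_mem (zpowers_le.2 h.dJ q) (mul_mem (zpowers_le.2 h.bJ p) o)) e f
  exact (cms ((mul_mem_cancel_left (mcs (zcm p (mcs (jb m))))).1 ((mul_mem_cancel_left (mcs (zcm q (mcs (jd m))))).1
    (mcs this.symm)))).symm

theorem nb (m : n ∈ H0 P Q z) (o : n * y = y * n) : n * b * n⁻¹ ∈ zpowers b := by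
  have i := Qz_cj (mcs o) h.bQ
  have j := conj_mem_of_norm (hn m) h.u.mb
  obtain ⟨e, p, w, q, f⟩ := h.Pb j (h.p.ab (h.QP j) (cms (Qz_le i)) (h.QP h.u.mb) h.u.cb)
  rwa [f, h.p.zq p ((mul_mem_cancel_right (zpowers_le.2 h.bQ q)).1 (f ▸ i)), one_mul]

theorem three (m : n * z = z * n) (o : n * y = y * n) (e : n ^ 3 = 1) : n ∈ JJ z b d :=
  have i := h.h3A (sup_le (zpowers_le.2 h.p.c) (zpowers_le.2 (mcs m))) (pgroup_sup (pg3 h.y3) (pg3 e)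
    (norm_of_cent (cent_zpowers y ▸ zpowers_le.2 (mcs o)))) (mem_sup_left (mem_zpowers y)) h.p.nq h.hy (mem_sup_right (mem_zpowers n))
  jmk m (cms (cen_of_three h.b3 (h.nb i o) (k := 1) e)) (cms (cen_of_three h.sy.b3 (h.sy.nb (hs i) o) (k := 1) e))

theorem Jpq (m : u ∈ JJ z b d) (o : v ∈ JJ z b d) (p : PR u v) (e : n * u = u * n) (f : n * v = v * n) (g : n ^ 3 = 1) :
    n ∈ JJ z b d := by
  obtain ⟨_, _, _, _, _, _, _, _, _, v', k, ⟨l⟩⟩ := p.exists_b0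
  have q : ∀ {n}, n * u = u * n → n * v = v * n → n ^ 3 = 1 → n ∈ _ := fun e f g =>
    l.three e (by rcases k with rfl | rfl; exacts [f, (cs f).1.2.2.1]) g
  have i : ∀ {j}, j ∈ JJ z b d → n * j = j * n := fun s => l.Jab (q e f g) (q (h.Jab s m) (h.Jab s o) (h.J3 s))
  exact jmk (i h.zJ) (i h.bJ) (i h.dJ)

theorem F2 (m : g * z * g⁻¹ ∈ JJ z b d) (o : g * y * g⁻¹ ∈ JJ z b d) : g ∈ 𝐍(JJ z b d) :=
  mem_normalizer_fintype fun _ i => h.Jpq m o ⟨h.p.w.cj g, ((Sg.refl z).cj g).symm'.trans (h.p.s.cj g), mcs (cj_comm h.yz),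
    fun e => h.p.n (zp_conj e)⟩ (cj_comm (jz i)) (cj_comm (h.Jy i)) (conj_cube (h.J3 i) g)

theorem QN (m : g ∈ Qz z) : g ∈ 𝐍(JJ z b d) := by
  have k : ∀ {x j}, x ∈ Qz z → j * z = z * j → j * x = x * j → g * j * g⁻¹ * x = x * (g * j * g⁻¹) := fun {x j} o p q => by
    have i := h.es.com _ (inv_mem (h.core ▸ m)) x (h.core ▸ o)
    have : j * (g⁻¹ * x * g⁻¹⁻¹) = g⁻¹ * x * g⁻¹⁻¹ * j := by
      rw [← inv_mul_cancel_right (g⁻¹ * x * g⁻¹⁻¹) x]; exact (cms (mul_mem (mcs (zcm i (mcs p))) (mcs q.symm))).symm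
    simpa [mul_assoc] using cj_comm (k := g) this
  exact mem_normalizer_fintype fun j i => jmk (k (h.QP h.e1.zP) (jz i) (jz i)) (k (h.QP h.u.mb) (jz i) (jb i))
    (k (h.QQ h.v.mb) (jz i) (jd i))

theorem QyN (m : g ∈ Qz y) : g ∈ 𝐍(JJ z b d) := by
  obtain ⟨_, _, _, _, _, _, _, _, _, v', k, ⟨l⟩⟩ := h.p.symm.exists_b0
  have i := conj_mem_of_norm (l.QN m) (l.three h.yz.symm (by rcases k with rfl | rfl; exacts [rfl, (cs rfl).1.2.2.1]) h.z3)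
  refine h.F2 (h.three ?_ (jz i) (l.J3 i)) (by rw [cj_of (cms (Qz_le m))]; exact h.yJ)
  rcases k with rfl | rfl
  exacts [l.Jy i, Commute.inv_right_iff.1 (l.Jy i)]

theorem h3J (m : n ∈ 𝐂[z]) (o : n ∈ 𝐍(JJ z b d)) {k : ℕ} (e : n ^ 3 ^ k = 1) : n ∈ H0 P Q z :=
  h.h3A (sup_le (fun _ i => mcs (jz i)) (zpowers_le.2 m)) (pgroup_sup h.pgJ (pgz e) (zpowers_le.2 o)) (mem_sup_left h.yJ) h.p.nq h.hy
    (mem_sup_right (mem_zpowers n))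

theorem fixb (m : n ∈ 𝐂[z]) (o : n ∈ 𝐍(JJ z b d)) {k : ℕ} (e : n ^ 3 ^ k = 1) : (h.D.ρ n).1 *ᵥ h.D.π b = h.D.π b := by
  have i := hl (h.h3J m o e)
  refine s3_dt _ (h.D.ρ_three i e) _ ?_
  rw [← h.D.act i h.u.mb]
  exact (h.D.comm (conj_mem_of_norm i.1 h.u.mb) h.u.mb).1 (jb (conj_mem_of_norm o h.bJ))

theorem sgC (m : s ∈ 𝐂[z]) (o : s ∈ 𝐍(JJ z b d)) (e : Sg z s) : s ∈ JJ z b d := by
  by_cases i : s ∈ zpowers z
  · exact h.ZJ i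
  have p : PR z s := ⟨h.p.w, e, m, i⟩
  have k : ∀ {r t a b c d : G} {P Q : Subgroup G} (h : B0 z r t y a b c d P Q R), s ∈ 𝐍(JJ z b d) → s * b = b * s := fun h o => by
    have i := h.h3J m o (k := 1) p.y3
    obtain ⟨x, mx, nx, ex⟩ := h.good p i
    obtain ⟨c, mc, f | f | f⟩ := h.D.par h.u.mb mx nx ((h.D.comm h.u.mb mx).2 (s3_par _ (h.noT p i) _ _ (h.fixb m o (k := 1) p.y3)
      (h.D.fix (hl i) mx ex.symm))) <;> rw [f] <;> cg [zc mc m, ex.symm]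
  exact jmk (cms m) (k h o) (k h.sy (JJ_symm z b d ▸ o))

theorem pgS : IsPGroup 3 ↥(JJ z b d ⊔ Qz z) := pgroup_sup h.pgJ (Qz_pg z) fun _ => h.QN

theorem Sz : JJ z b d ⊔ Qz z ≤ 𝐂[z] := sup_le (fun _ m => mcs (jz m)) fun _ => Qz_le

theorem memS (m : n ∈ 𝐂[z]) (o : n ∈ 𝐍(JJ z b d)) {k : ℕ} (e : n ^ 3 ^ k = 1) : ∃ x ∈ P, ∃ w ∈ Q, (x * w)⁻¹ * n ∈ JJ z b d := by
  have k : ∀ {r t a b c d : G} {P Q : Subgroup G} (h : B0 z r t y a b c d P Q R), n ∈ 𝐍(JJ z b d) →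
      ∃ x ∈ P, x * b * x⁻¹ = n * b * n⁻¹ := fun h o => by
    have i := hl (h.h3J m o e)
    obtain ⟨c, mc, f⟩ := h.D.π_eq (conj_mem_of_norm i.1 h.u.mb) h.u.mb ((h.D.act i h.u.mb).trans (h.fixb m o e))
    exact f ▸ h.D.exz h.e1 h.u.mb h.u.nb mc
  obtain ⟨x, p, f⟩ := k h o
  obtain ⟨w, q, g⟩ := k h.sy (JJ_symm z b d ▸ o)
  refine ⟨x, p, w, q, jmk (cms (mul_mem (inv_mem (mul_mem (h.e1.cz p) (h.e2.cz q))) m)) (mul_inv_eq_iff_eq_mul.1 ?_)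
    (mul_inv_eq_iff_eq_mul.1 ?_)⟩ <;> rw [← cjcj]
  · rw [← f]; cg [(h.cc h.u.mb q).symm]
  · rw [← g]; cg [h.cc p h.v.mb, h.cc p q]

theorem sylS : Syl 3 (JJ z b d ⊔ Qz z) 𝐍(JJ z b d) := by
  refine syl_of_three h.pgS (sup_le (le_norm _) fun _ => h.QN) fun n m o k e => ?_
  have i : z ∈ 𝐂(JJ z b d ⊔ Qz z) := le_cent1_iff.1 h.Sz
  have := conj_mem_of_norm (norm_cent le_rfl o) i
  obtain ⟨x, p, w, q, f⟩ := h.memS (cen_of_three h.z3 (h.cen (mem_inf.2 ⟨cent_anti (fun _ m => mem_sup_right (h.QP m)) this,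
    cent_anti (fun _ m => mem_sup_right (h.QQ m)) this⟩)) e) m e
  exact (mul_mem_cancel_left (mem_sup_right (inv_mem (mul_mem (h.QP p) (h.QQ q))))).1 (mem_sup_left f)

theorem sgN (o : s ∈ 𝐍(JJ z b d)) (e : Sg z s) : s ∈ JJ z b d := by
  have := Fact.mk Nat.prime_three
  obtain ⟨g, m, l⟩ := Syl.exists_conj_le h.sylS (pg3 (e.cube h.z3)) (zpowers_le.2 o)
  simpa [mul_assoc] using conj_mem_of_norm' m (h.sgC (h.Sz (l (conj_mem_conj.2 (mem_zpowers s)))) (cjm m o) (e.cj g))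

theorem WC (p : IsPGroup 3 U) (m : z ∈ U) (o : y ∈ U) : U ≤ 𝐍(JJ z b d) := by
  have := Fact.mk Nat.prime_three
  by_contra n
  obtain ⟨x, i, k⟩ := SetLike.exists_of_lt (nil_norm_grow (pgroup_nil p) (inf_lt_left.2 n))
  exact k (mem_inf.2 ⟨i.1, h.F2 (h.sgN (conj_mem_of_norm i.2 (mem_inf.2 ⟨m, le_norm _ h.zJ⟩)).2 ((Sg.refl z).cj x))
    (h.sgN (conj_mem_of_norm i.2 (mem_inf.2 ⟨o, le_norm _ h.yJ⟩)).2 (h.p.s.cj x))⟩)

theorem fus (mz : z ∈ L) (my : y ∈ L) (m : g ∈ L) (i : j ∈ JJ z b d) (o : g * j * g⁻¹ ∈ JJ z b d) :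
    ∃ n ∈ L, n ∈ 𝐍(JJ z b d) ∧ n * j * n⁻¹ = g * j * g⁻¹ := by
  have := Fact.mk Nat.prime_three
  have p : IsPGroup 3 ↥(JJ z b d ⊓ L) := pgroup_of_le h.pgJ inf_le_left
  obtain ⟨U, s, l⟩ := Syl.exists_ge p (show _ ≤ L ⊓ 𝐂[g * j * g⁻¹] from fun x m => mem_inf.2 ⟨m.2, mcs (h.Jab m.1 o)⟩)
  obtain ⟨k, q, l'⟩ := Syl.exists_conj_le s ((pgroup_conj g).2 p) (fa_conj fun x o => mem_inf.2 ⟨cjm m o.2, mcs (cj_comm (h.Jab o.1 i))⟩)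
  have f : ∀ {x}, x ∈ JJ z b d → x ∈ L → Sg z x → k * g * x * (k * g)⁻¹ ∈ JJ z b d := fun p q e => h.sgN (h.WC (Syl.pgroup s)
    (l (mem_inf.2 ⟨h.zJ, mz⟩)) (l (mem_inf.2 ⟨h.yJ, my⟩)) (cjcj k g _ ▸ l' (conj_mem_conj.2 (conj_mem_conj.2 (mem_inf.2 ⟨p, q⟩))))) (e.cj _)
  exact ⟨k * g, mul_mem q.1 m, h.F2 (f h.zJ mz (.refl z)) (f h.yJ my h.p.s), by rw [← cjcj, cj_of (cms q.2)]⟩

end B0

end Cfsg.Lib.C23
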